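import Mathlib

set_option autoImplicit false

/-! A linear map whose square is a non-zero scalar is monomial in a suitable basis, with an involutive
permutation of the basis lines (helper99). -/

namespace Cfsg.Agent.H99

universe u v

open Module

section
variable {F : Type u} [Field F]

lemma exists_dual_pair {V : Type v} [AddCommGroup V] [Module F V] (v w : V)
    (h : ∀ c : F, w ≠ c • v) : ∃ φ : V →ₗ[F] F, φ v = 0 ∧ φ w = 1 := by
  have hw : w ∉ Submodule.span F {v} := by
    intro hw
    obtain ⟨c, hc⟩ := Submodule.mem_span_singleton.mp hw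
    exact h c hc.symm
  obtain ⟨φ, h1, h2⟩ := Submodule.exists_dual_map_eq_bot_of_notMem hw inferInstance
  refine ⟨(φ w)⁻¹ • φ, ?_, ?_⟩
  · have : φ v ∈ (Submodule.span F {v}).map φ := Submodule.mem_map_of_mem (Submodule.mem_span_singleton_self v)
    rw [h2, Submodule.mem_bot] at this
    simp [this]
  · simp [h1]

/-- `b` is monomial for `f` with permutation `σ`. -/
theorem exists_monomial_basis (z : F) (hz : z ≠ 0) (n : ℕ) :
    ∀ (V : Type v) [AddCommGroup V] [Module F V] [FiniteDimensional F V] (f : V →ₗ[F] V),
      (∀ v, f (f v) = z • v) → finrank F V = n →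
      ∃ (b : Basis (Fin n) F V) (σ : Fin n → Fin n), Function.Involutive σ ∧
        ∀ j, ∃ c : F, c ≠ 0 ∧ f (b j) = c • b (σ j) := by
  induction n using Nat.strong_induction_on with
  | _ n ih =>
    intro V _ _ _ f hf hn
    by_cases hsc : ∀ v, ∃ c : F, f v = c • v
    · refine ⟨finBasisOfFinrankEq F V hn, id, fun _ => rfl, fun j => ?_⟩
      obtain ⟨c, hc⟩ := hsc (finBasisOfFinrankEq F V hn j)
      refine ⟨c, ?_, hc⟩
      rintro rfl
      have h1 := hf (finBasisOfFinrankEq F V hn j)
      rw [hc, zero_smul, map_zero] at h1
      have h2 := (smul_eq_zero.mp h1.symm).resolve_left hz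
      exact (finBasisOfFinrankEq F V hn).ne_zero j h2
    · push Not at hsc
      obtain ⟨v, hv⟩ := hsc
      have hv0 : v ≠ 0 := by
        rintro rfl
        exact hv 0 (by simp)
      obtain ⟨φ, hφv, hφw⟩ := exists_dual_pair v (f v) hv
      set π : V →ₗ[F] V := (φ ∘ₗ f).smulRight v + φ.smulRight (f v) with hπ
      have hπa : ∀ u, π u = φ (f u) • v + φ u • f v := fun u => by simp [hπ]
      have hπv : π v = v := by rw [hπa, hφv, hφw]; simp
      have hπw : π (f v) = f v := by rw [hπa, hf, hφw, map_smul, hφv]; simp
      have hπf : ∀ u, π (f u) = f (π u) := by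
        intro u
        rw [hπa, hπa, hf, map_add, map_smul, map_smul, map_smul, hf]
        rw [smul_eq_mul, mul_smul, add_comm, smul_comm z]
      set P := Submodule.span F (Set.range ![v, f v]) with hP
      have hli : LinearIndependent F ![v, f v] := by
        rw [LinearIndependent.pair_iff' hv0]
        intro a h; exact hv a h.symm
      have hrange : LinearMap.range π = P := by
        apply le_antisymm
        · rintro _ ⟨u, rfl⟩
          rw [hπa, hP]
          refine add_mem (Submodule.smul_mem _ _ (Submodule.subset_span ⟨0, rfl⟩))
            (Submodule.smul_mem _ _ (Submodule.subset_span ⟨1, rfl⟩))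
        · rw [hP, Submodule.span_le]
          rintro _ ⟨i, rfl⟩
          fin_cases i
          · exact ⟨v, hπv⟩
          · exact ⟨f v, hπw⟩
      have hPdim : finrank F P = 2 := by
        rw [hP, finrank_span_eq_card hli]; simp
      set K := LinearMap.ker π with hK
      have hKdim : finrank F K = n - 2 ∧ 2 ≤ n := by
        have := LinearMap.finrank_range_add_finrank_ker π
        rw [hrange, hPdim, hn] at this
        constructor
        · rw [hK]; omega
        · omega
      have hdisj : Disjoint P K := by
        rw [Submodule.disjoint_def]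
        intro x hx hxK
        rw [← hrange] at hx
        obtain ⟨u, rfl⟩ := hx
        rw [hK, LinearMap.mem_ker] at hxK
        rw [← hxK]
        rw [hπa u, map_add, map_smul, map_smul, hπv, hπw]
      have hfK : ∀ x ∈ K, f x ∈ K := by
        intro x hx
        rw [hK, LinearMap.mem_ker] at hx ⊢
        rw [hπf, hx, map_zero]
      obtain ⟨bK, τ, hτ, hbK⟩ := ih (n - 2) (by omega) K (f.restrict hfK)
        (by intro v; ext; simp [LinearMap.restrict_apply, hf]) hKdim.1
      have hli2 : LinearIndependent F (Sum.elim ![v, f v] (fun j => (bK j : V))) := by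
        apply LinearIndependent.sum_type hli
        · exact bK.linearIndependent.map' K.subtype (Submodule.ker_subtype K)
        · refine hdisj.mono le_rfl ?_
          rw [Submodule.span_le]
          rintro _ ⟨j, rfl⟩
          exact (bK j).2
      have hcard : Fintype.card (Fin 2 ⊕ Fin (n - 2)) = finrank F V := by
        rw [Fintype.card_sum, Fintype.card_fin, Fintype.card_fin, hn]; omega
      let B := basisOfLinearIndependentOfCardEqFinrank hli2 hcard
      have hB : ∀ i, B i = Sum.elim ![v, f v] (fun j => (bK j : V)) i := fun i => by
        simp [B]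
      let s : Fin 2 ⊕ Fin (n - 2) → Fin 2 ⊕ Fin (n - 2) := Sum.map ![1, 0] τ
      have hs : Function.Involutive s := by
        intro i
        rcases i with i | i
        · fin_cases i <;> rfl
        · simp [s, hτ i]
      let e : Fin 2 ⊕ Fin (n - 2) ≃ Fin n := Fintype.equivFinOfCardEq (by rw [hcard, hn])
      refine ⟨B.reindex e, fun j => e (s (e.symm j)), ?_, ?_⟩
      · intro j
        simp [hs (e.symm j)]
      · intro j
        simp only [Basis.reindex_apply, Equiv.symm_apply_apply, hB]
        generalize e.symm j = i
        rcases i with i | i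
        · fin_cases i
          · exact ⟨1, one_ne_zero, by simp [s]⟩
          · exact ⟨z, hz, by simp [s, hf]⟩
        · obtain ⟨c, hc, hcc⟩ := hbK i
          refine ⟨c, hc, ?_⟩
          have := congrArg (fun x : K => (x : V)) hcc
          simpa [s, LinearMap.restrict_apply] using this

end

end Cfsg.Agent.H99
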