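import Mathlib
import Cfsg.Agent.H99.Monomial

set_option autoImplicit false

/-! Every non-zero scalar is the determinant of something commuting with a given semisimple endomorphism
over a finite field (helper99). -/

namespace Cfsg.Agent.H99

universe u v

open Module

section
variable {F : Type u} [Field F] [Finite F]

lemma exists_commute_det_of_irred {V : Type v} [AddCommGroup V] [Module F V] [FiniteDimensional F V]
    [Nontrivial V] (x : V →ₗ[F] V)
    (hx : ∀ P : Submodule F V, (∀ v ∈ P, x v ∈ P) → P = ⊥ ∨ P = ⊤) (δ : F) :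
    ∃ C : V →ₗ[F] V, C ∘ₗ x = x ∘ₗ C ∧ LinearMap.det C = δ := by
  have hfinE : Finite (Module.End F V) := Module.finite_of_finite F
  set A : Subalgebra F (Module.End F V) := Algebra.adjoin F {x} with hA
  have hcomm : ∀ a : A, (a : Module.End F V) * x = x * a := by
    rintro ⟨a, ha⟩
    have := Algebra.adjoin_le_centralizer_centralizer F ({x} : Set (Module.End F V)) ha
    rw [Subalgebra.mem_centralizer_iff] at this
    have h2 := this x (by
      rw [SetLike.mem_coe, Subalgebra.mem_centralizer_iff]
      rintro y hy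
      rw [Set.mem_singleton_iff] at hy
      rw [hy])
    exact h2.symm
  obtain ⟨v, hv⟩ := exists_ne (0 : V)
  let iC : CommRing A := { (inferInstance : Ring A) with
    mul_comm := by
      rintro ⟨a, ha⟩ ⟨b, hb⟩
      apply Subtype.ext
      have := Algebra.adjoin_le_centralizer_centralizer F ({x} : Set (Module.End F V)) ha
      rw [Subalgebra.mem_centralizer_iff] at this
      refine (this b ?_).symm
      rw [SetLike.mem_coe, Subalgebra.mem_centralizer_iff]
      rintro y hy
      rw [Set.mem_singleton_iff] at hy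
      rw [hy]
      exact (hcomm ⟨b, hb⟩).symm }
  have hinj : ∀ a : A, a ≠ 0 → ∀ w : V, (a : Module.End F V) w = 0 → w = 0 := by
    intro a ha w hw
    rcases hx (LinearMap.ker (a : Module.End F V)) (by
      intro u hu
      rw [LinearMap.mem_ker] at hu ⊢
      have h1 := LinearMap.congr_fun (hcomm a) u
      simp only [Module.End.mul_apply] at h1
      rw [h1, hu, map_zero]) with h | h
    · have : w ∈ LinearMap.ker (a : Module.End F V) := hw
      rw [h] at this
      exact this
    · exfalso
      apply ha
      apply Subtype.ext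
      exact LinearMap.ker_eq_top.mp h
  have hdom : IsDomain A := by
    have : Nontrivial A := ⟨⟨1, 0, fun h => by
      have h2 := LinearMap.congr_fun (congrArg Subtype.val h) v
      exact hv h2⟩⟩
    have : NoZeroDivisors A := ⟨by
      intro a b hab
      by_contra hcon
      push Not at hcon
      have h1 : ((a * b : A) : Module.End F V) v = 0 := by rw [hab]; rfl
      have h2 : (a : Module.End F V) ((b : Module.End F V) v) = 0 := h1
      exact hv (hinj b hcon.2 v (hinj a hcon.1 _ h2))⟩
    exact NoZeroDivisors.to_isDomain A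
  have hfin : Finite A := inferInstance
  have hfield : IsField A := Finite.isField_of_domain A
  let iF : Field A := hfield.toField
  let e0 : A →ₗ[F] V := (LinearMap.applyₗ v).comp A.val.toLinearMap
  have he0 : Function.Bijective e0 := by
    constructor
    · rw [← LinearMap.ker_eq_bot, LinearMap.ker_eq_bot']
      intro a ha
      by_contra hne
      exact hv (hinj a hne v ha)
    · rw [← LinearMap.range_eq_top]
      rcases hx (LinearMap.range e0) (by
        rintro _ ⟨a, rfl⟩
        refine ⟨(⟨x, Algebra.subset_adjoin rfl⟩ : A) * a, ?_⟩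
        rfl) with h | h
      · exfalso
        have : e0 1 ∈ LinearMap.range e0 := ⟨1, rfl⟩
        rw [h] at this
        exact hv this
      · exact h
  let e : A ≃ₗ[F] V := LinearEquiv.ofBijective e0 he0
  obtain ⟨a, ha⟩ := FiniteField.norm_surjective F A δ
  refine ⟨(a : Module.End F V), hcomm a, ?_⟩
  rw [← ha, Algebra.norm_apply]
  rw [← LinearMap.det_conj (Algebra.lmul F A a) e]
  congr 1
  apply LinearMap.ext
  intro w
  obtain ⟨c, rfl⟩ := e.surjective w
  simp only [LinearMap.comp_apply, LinearEquiv.coe_coe, LinearEquiv.symm_apply_apply]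
  rfl

omit [Finite F] in
/-- minimal non-zero invariant subspace -/
lemma exists_min_invariant {V : Type v} [AddCommGroup V] [Module F V] [FiniteDimensional F V]
    [Nontrivial V] (x : V →ₗ[F] V) :
    ∃ P : Submodule F V, P ≠ ⊥ ∧ (∀ v ∈ P, x v ∈ P) ∧
      ∀ Q : Submodule F V, Q ≤ P → (∀ v ∈ Q, x v ∈ Q) → Q = ⊥ ∨ Q = P := by
  classical
  have hex : ∃ n : ℕ, ∃ P : Submodule F V, P ≠ ⊥ ∧ (∀ v ∈ P, x v ∈ P) ∧ finrank F P = n :=
    ⟨_, ⊤, top_ne_bot, fun _ _ => Submodule.mem_top, rfl⟩
  obtain ⟨P, h1, h2, h3⟩ := Nat.find_spec hex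
  refine ⟨P, h1, h2, fun Q hQ hQx => ?_⟩
  by_cases hQ0 : Q = ⊥
  · exact Or.inl hQ0
  · right
    apply Submodule.eq_of_le_of_finrank_le hQ
    rw [h3]
    exact Nat.find_min' hex ⟨Q, hQ0, hQx, rfl⟩

omit [Finite F] in
/-- If `V = P ⊕ Q` with `P`, `Q` invariant and `C₀` on `P` commutes with `x|P`, extend by the identity. -/
lemma exists_extend_commute {V : Type v} [AddCommGroup V] [Module F V] [FiniteDimensional F V]
    (x : V →ₗ[F] V) (P Q : Submodule F V) (hPQ : IsCompl P Q) (hP : ∀ v ∈ P, x v ∈ P)
    (hQ : ∀ v ∈ Q, x v ∈ Q) (C₀ : P →ₗ[F] P) (hC : C₀ ∘ₗ x.restrict hP = x.restrict hP ∘ₗ C₀) :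
    ∃ C : V →ₗ[F] V, C ∘ₗ x = x ∘ₗ C ∧ LinearMap.det C = LinearMap.det C₀ := by
  set e := Submodule.prodEquivOfIsCompl P Q hPQ with he
  refine ⟨e.toLinearMap ∘ₗ (C₀.prodMap LinearMap.id) ∘ₗ e.symm.toLinearMap, ?_, ?_⟩
  · have hx : ∀ pq : P × Q, x (e pq) = e (x.restrict hP pq.1, x.restrict hQ pq.2) := by
      rintro ⟨p, q⟩
      rw [he, Submodule.coe_prodEquivOfIsCompl', Submodule.coe_prodEquivOfIsCompl', map_add]
      rfl
    apply LinearMap.ext
    intro v
    obtain ⟨⟨p, q⟩, rfl⟩ := e.surjective v
    have h2 := LinearMap.congr_fun hC p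
    simp only [LinearMap.comp_apply, LinearEquiv.coe_coe, LinearEquiv.symm_apply_apply, hx,
      LinearMap.prodMap_apply, LinearMap.id_apply] at h2 ⊢
    rw [h2]
  · rw [LinearMap.det_conj, LinearMap.det_prodMap, LinearMap.det_id, mul_one]

/-- Over a finite field every scalar is the determinant of an endomorphism commuting with a given semisimple one. -/
theorem exists_commute_det_of_isSemisimple {V : Type v} [AddCommGroup V] [Module F V]
    [FiniteDimensional F V] [Nontrivial V] (x : V →ₗ[F] V) (hx : Module.End.IsSemisimple x)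
    (δ : F) :
    ∃ C : V →ₗ[F] V, C ∘ₗ x = x ∘ₗ C ∧ LinearMap.det C = δ := by
  obtain ⟨P, hP0, hP, hmin⟩ := exists_min_invariant x
  rw [Module.End.isSemisimple_iff] at hx
  obtain ⟨Q, hQ, hPQ⟩ := hx P hP
  have : Nontrivial P := Submodule.nontrivial_iff_ne_bot.mpr hP0
  obtain ⟨C₀, hC₀, hd⟩ := exists_commute_det_of_irred (x.restrict hP) (by
    intro R hR
    rcases hmin (R.map P.subtype) (Submodule.map_subtype_le P R) (by
      rintro _ ⟨r, hr, rfl⟩
      exact ⟨x.restrict hP r, hR r hr, rfl⟩) with h | h
    · left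
      exact Submodule.map_injective_of_injective P.subtype_injective (h.trans (Submodule.map_bot _).symm)
    · right
      apply Submodule.map_injective_of_injective P.subtype_injective
      rw [h, Submodule.map_subtype_top]) δ
  obtain ⟨C, h1, h2⟩ := exists_extend_commute x P Q hPQ hP hQ C₀ hC₀
  exact ⟨C, h1, h2.trans hd⟩

omit [Finite F] in
lemma isSemisimple_of_pow_eq {V : Type v} [AddCommGroup V] [Module F V]
    [FiniteDimensional F V] (x : V →ₗ[F] V) (r : ℕ) (z : F) (hz : z ≠ 0) (hr : (r : F) ≠ 0)
    (hx : ∀ v, (x ^ r) v = z • v) : Module.End.IsSemisimple x := by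
  apply Module.End.isSemisimple_of_squarefree_aeval_eq_zero (p := Polynomial.X ^ r - Polynomial.C z)
  · exact (Polynomial.separable_X_pow_sub_C z hr hz).squarefree
  · apply LinearMap.ext
    intro v
    have h1 := hx v
    simp only [map_sub, map_pow, Polynomial.aeval_X, Polynomial.aeval_C, LinearMap.sub_apply,
      LinearMap.zero_apply, h1]
    simp

end

section
variable {F : Type u} [Field F]

/-- Every non-zero scalar is the determinant of a matrix commuting with `x`. -/
def CentSurj {n : ℕ} (x : Matrix (Fin n) (Fin n) F) : Prop :=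
  ∀ δ : F, δ ≠ 0 → ∃ C : Matrix (Fin n) (Fin n) F, C * x = x * C ∧ C.det = δ

theorem CentSurj.exists_sl {n : ℕ} {x : Matrix (Fin n) (Fin n) F} (hx : CentSurj x)
    (P y : Matrix (Fin n) (Fin n) F) (hP : P.det ≠ 0) (h : x * P = P * y) :
    ∃ S : Matrix.SpecialLinearGroup (Fin n) F,
      x * (S : Matrix (Fin n) (Fin n) F) = (S : Matrix (Fin n) (Fin n) F) * y := by
  obtain ⟨C, hC, hd⟩ := hx (P.det)⁻¹ (inv_ne_zero hP)
  refine ⟨⟨C * P, by rw [Matrix.det_mul, hd, inv_mul_cancel₀ hP]⟩, ?_⟩
  change x * (C * P) = C * P * y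
  rw [← Matrix.mul_assoc, ← hC, Matrix.mul_assoc, h, Matrix.mul_assoc]

theorem centSurj_of_toLin {n : ℕ} (x : Matrix (Fin n) (Fin n) F)
    (h : ∀ δ : F, δ ≠ 0 → ∃ C : (Fin n → F) →ₗ[F] (Fin n → F), C ∘ₗ Matrix.toLin' x = Matrix.toLin' x ∘ₗ C ∧
      LinearMap.det C = δ) : CentSurj x := by
  intro δ hδ
  obtain ⟨C, hC, hd⟩ := h δ hδ
  refine ⟨LinearMap.toMatrix' C, ?_, ?_⟩
  · apply Matrix.toLin'.injective
    rw [Matrix.toLin'_mul, Matrix.toLin'_mul, Matrix.toLin'_toMatrix', hC]
  · rw [LinearMap.det_toMatrix', hd]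

theorem centSurj_of_isSemisimple [Finite F] {n : ℕ} (hn : 0 < n) (x : Matrix (Fin n) (Fin n) F)
    (h : Module.End.IsSemisimple (Matrix.toLin' x)) : CentSurj x := by
  have : Nonempty (Fin n) := ⟨⟨0, hn⟩⟩
  exact centSurj_of_toLin x (fun δ _ => exists_commute_det_of_isSemisimple _ h δ)

theorem centSurj_of_pow_eq [Finite F] {n : ℕ} (hn : 0 < n) (x : Matrix (Fin n) (Fin n) F) (r : ℕ) (z : F)
    (hz : z ≠ 0) (hr : (r : F) ≠ 0) (h : x ^ r = z • (1 : Matrix (Fin n) (Fin n) F)) : CentSurj x := by
  apply centSurj_of_isSemisimple hn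
  apply isSemisimple_of_pow_eq _ r z hz hr
  intro v
  rw [← Matrix.toLin'_pow, h]
  simp

/-- elements whose square is scalar: every determinant occurs in the centralizer -/
theorem centSurj_of_sq_eq [Finite F] {n : ℕ} (hn : 0 < n) (x : Matrix (Fin n) (Fin n) F) (z : F)
    (hz : z ≠ 0) (h : x ^ 2 = z • (1 : Matrix (Fin n) (Fin n) F)) : CentSurj x := by
  by_cases h2 : (2 : F) = 0
  · have hsq : ∀ a : F, ∃ b : F, b * b = a := by
      intro a
      have : CharP F 2 := CharTwo.of_one_ne_zero_of_two_eq_zero one_ne_zero h2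
      obtain ⟨b, hb⟩ := FiniteField.isSquare_of_char_two (ringChar.eq_iff.mpr this) a
      exact ⟨b, hb.symm⟩
    have hf : ∀ v, Matrix.toLin' x (Matrix.toLin' x v) = z • v := by
      intro v
      have := congrArg (fun M => Matrix.toLin' M v) h
      simp only [pow_two, Matrix.toLin'_mul, LinearMap.comp_apply] at this
      rw [this]
      simp
    obtain ⟨b, σ, hσ, hb⟩ := exists_monomial_basis z hz n (Fin n → F) (Matrix.toLin' x) hf (by simp)
    choose c hc0 hc using hb
    have key : ∀ d : Fin n → F, (∀ i, d (σ i) = d i) →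
        (b.constr F (fun i => d i • b i)) ∘ₗ Matrix.toLin' x = Matrix.toLin' x ∘ₗ (b.constr F (fun i => d i • b i)) ∧
        LinearMap.det (b.constr F (fun i => d i • b i)) = ∏ i, d i := by
      intro d hd
      constructor
      · apply b.ext
        intro i
        simp only [LinearMap.comp_apply, hc, map_smul, Basis.constr_basis, hd]
        rw [smul_comm]
      · rw [← LinearMap.det_toMatrix b]
        have : LinearMap.toMatrix b b (b.constr F (fun i => d i • b i)) = Matrix.diagonal d := by
          ext i j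
          rw [LinearMap.toMatrix_apply, Basis.constr_basis, map_smul, Basis.repr_self, Matrix.diagonal_apply]
          simp only [Finsupp.smul_apply, smul_eq_mul, Finsupp.single_apply]
          by_cases hij : i = j
          · subst hij; simp
          · rw [if_neg (Ne.symm hij), if_neg hij, mul_zero]
        rw [this, Matrix.det_diagonal]
    apply centSurj_of_toLin
    intro δ hδ
    set j : Fin n := ⟨0, hn⟩ with hj
    by_cases hfix : σ j = j
    · refine ⟨_, (key (fun i => if i = j then δ else 1) ?_).1, (key (fun i => if i = j then δ else 1) ?_).2.trans ?_⟩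
      · intro i
        have : σ i = j ↔ i = j := by
          constructor
          · intro h'
            rw [← hσ i, h', hfix]
          · rintro rfl
            exact hfix
        simp [this]
      · intro i
        have : σ i = j ↔ i = j := by
          constructor
          · intro h'
            rw [← hσ i, h', hfix]
          · rintro rfl
            exact hfix
        simp [this]
      · rw [Finset.prod_ite_eq']
        simp
    · obtain ⟨s, hs⟩ := hsq δ
      have hinv : ∀ i, (if σ i = j then s else if σ i = σ j then s else 1) =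
          if i = j then s else if i = σ j then s else 1 := by
        intro i
        by_cases h1 : i = j
        · subst h1
          simp [hfix]
        · by_cases h2' : i = σ j
          · subst h2'
            simp [hσ j]
          · have h3 : σ i ≠ j := fun h' => h2' (by rw [← h', hσ i])
            have h4 : σ i ≠ σ j := fun h' => h1 (hσ.injective h')
            simp [h1, h2', h3, h4]
      refine ⟨_, (key (fun i => if i = j then s else if i = σ j then s else 1) hinv).1,
        (key (fun i => if i = j then s else if i = σ j then s else 1) hinv).2.trans ?_⟩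
      have hjj : σ j ≠ j := hfix
      rw [← Finset.mul_prod_erase _ _ (Finset.mem_univ j), ← Finset.mul_prod_erase _ _
        (Finset.mem_erase.mpr ⟨hjj, Finset.mem_univ (σ j)⟩)]
      rw [Finset.prod_eq_one]
      · simp [hjj, hs]
      · intro i hi
        rw [Finset.mem_erase, Finset.mem_erase] at hi
        simp [hi.1, hi.2.1]
  · exact centSurj_of_pow_eq hn x 2 z hz (by exact_mod_cast h2) h

end

end Cfsg.Agent.H99
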