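import Cfsg.Agent.H20.HarDef

set_option autoImplicit false
set_option maxHeartbeats 800000
set_option linter.unusedSectionVars false
set_option linter.unusedVariables false

/-! Harada's theorem: the case `|V| = 16`, `|A ∩ V| = 2`. -/

namespace Cfsg.Agent.H99.HarE
open Subgroup Cfsg.Agent.H20.Har

section
variable {S : Type*} [Group S] [Finite S]

/-- the commutator map with an involution -/
theorem comm_map (W : Subgroup S) (Wcomm : ∀ v ∈ W, ∀ w ∈ W, v * w = w * v) (Wsq : ∀ v ∈ W, v * v = 1)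
    (a : S) (haa : a * a = 1) (hWa : ∀ w ∈ W, a * w * a ∈ W) :
    Nat.card W ≤ Nat.card ↥(W ⊓ centralizer {a}) * Nat.card ↥(W ⊓ centralizer {a}) ∧
    (Nat.card W = Nat.card ↥(W ⊓ centralizer {a}) * Nat.card ↥(W ⊓ centralizer {a}) →
      ∀ f ∈ W, f * a = a * f → ∃ w ∈ W, f = w⁻¹ * (a * w * a)) := by
  classical
  have hmem : ∀ x, x ∈ W ⊓ centralizer ({a} : Set S) ↔ x ∈ W ∧ x * a = a * x := by
    intro x
    rw [Subgroup.mem_inf, mem_centralizer_singleton_iff]
  let ψ : W →* W :=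
    { toFun := fun w => w⁻¹ * ⟨a * w * a, hWa w w.2⟩
      map_one' := by
        apply Subtype.ext
        change (1 : S)⁻¹ * (a * 1 * a) = 1
        rw [mul_one, haa, inv_one, one_mul]
      map_mul' := by
        intro x y
        apply Subtype.ext
        change ((x : S) * y)⁻¹ * (a * (x * y) * a) = (x : S)⁻¹ * (a * x * a) * ((y : S)⁻¹ * (a * y * a))
        have h1 : a * ((x : S) * y) * a = (a * x * a) * (a * y * a) := by
          calc a * ((x : S) * y) * a = a * x * 1 * y * a := by group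
            _ = a * x * (a * a) * y * a := by rw [haa]
            _ = _ := by group
        rw [h1, mul_inv_rev]
        have h2 := Wcomm (y : S)⁻¹ (W.inv_mem y.2) ((x : S)⁻¹ * (a * x * a)) (W.mul_mem (W.inv_mem x.2) (hWa x x.2))
        calc (y : S)⁻¹ * (x : S)⁻¹ * ((a * x * a) * (a * y * a)) = ((y : S)⁻¹ * ((x : S)⁻¹ * (a * x * a))) * (a * y * a) := by group
          _ = _ := by rw [h2]; group }
  have hψ : ∀ w : W, ((ψ w : W) : S) = (w : S)⁻¹ * (a * w * a) := fun w => rfl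
  have hcomm_iff : ∀ w : S, w⁻¹ * (a * w * a) = 1 ↔ w * a = a * w := by
    intro w
    constructor
    · intro h1
      have h2 : a * w * a = w := by
        have := congrArg (fun t => w * t) h1
        simpa [mul_assoc] using this
      calc w * a = (a * w * a) * a := by rw [h2]
        _ = a * w * (a * a) := by group
        _ = a * w := by rw [haa, mul_one]
    · intro h1
      rw [mul_assoc, h1, ← mul_assoc, ← mul_assoc, mul_assoc w⁻¹, haa, mul_one, inv_mul_cancel]
  have hker : Nat.card ψ.ker = Nat.card ↥(W ⊓ centralizer ({a} : Set S)) := by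
    have h1 : ψ.ker.map W.subtype = W ⊓ centralizer ({a} : Set S) := by
      ext s
      rw [hmem]
      constructor
      · rintro ⟨w, hk, rfl⟩
        have h2 : ((ψ w : W) : S) = 1 := congrArg Subtype.val (MonoidHom.mem_ker.1 hk)
        rw [hψ] at h2
        exact ⟨w.2, (hcomm_iff w).1 h2⟩
      · rintro ⟨hs, h2⟩
        refine ⟨⟨s, hs⟩, ?_, rfl⟩
        apply MonoidHom.mem_ker.2
        apply Subtype.ext
        rw [hψ]
        exact (hcomm_iff s).2 h2
    rw [← h1, Subgroup.card_map_of_injective W.subtype_injective]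
  have hrange : ψ.range.map W.subtype ≤ W ⊓ centralizer ({a} : Set S) := by
    rintro _ ⟨_, ⟨w, rfl⟩, rfl⟩
    rw [hmem]
    refine ⟨(ψ w).2, ?_⟩
    change ((ψ w : W) : S) * a = a * ((ψ w : W) : S)
    rw [hψ]
    set f := (w : S)⁻¹ * (a * w * a) with hf
    have hfW : f ∈ W := W.mul_mem (W.inv_mem w.2) (hWa w w.2)
    have h1 : a * f * a = f⁻¹ := by
      have e1 : a * f * a = (a * (w : S)⁻¹ * a) * w * (a * a) := by rw [hf]; group
      rw [e1, haa, mul_one, hf, mul_inv_rev, inv_inv, mul_inv_rev, mul_inv_rev, inv_eq_of_mul_eq_one_left haa]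
      group
    have h2 : f⁻¹ = f := inv_eq_of_mul_eq_one_left (Wsq f hfW)
    rw [h2] at h1
    calc f * a = (a * f * a) * a := by rw [h1]
      _ = a * f * (a * a) := by group
      _ = a * f := by rw [haa, mul_one]
  have hrc : Nat.card ↥(ψ.range.map W.subtype) = Nat.card ψ.range := Subgroup.card_map_of_injective W.subtype_injective
  have hcard := Subgroup.card_mul_index ψ.ker
  rw [Subgroup.index_ker, hker] at hcard
  have hle : Nat.card ψ.range ≤ Nat.card ↥(W ⊓ centralizer ({a} : Set S)) := by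
    rw [← hrc]
    exact Subgroup.card_le_of_le hrange
  refine ⟨?_, ?_⟩
  · calc Nat.card W = _ := hcard.symm
      _ ≤ _ := Nat.mul_le_mul_left _ hle
  · intro heq f hf hfa
    have hpos : 0 < Nat.card ↥(W ⊓ centralizer ({a} : Set S)) := Nat.card_pos
    have h1 : Nat.card ψ.range = Nat.card ↥(W ⊓ centralizer ({a} : Set S)) := by
      apply Nat.eq_of_mul_eq_mul_left hpos
      rw [hcard, heq]
    have h2 : ψ.range.map W.subtype = W ⊓ centralizer ({a} : Set S) :=
      Subgroup.eq_of_le_of_card_ge hrange (by rw [hrc, h1])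
    have h3 : f ∈ ψ.range.map W.subtype := by
      rw [h2, hmem]
      exact ⟨hf, hfa⟩
    obtain ⟨_, ⟨w, rfl⟩, hw⟩ := h3
    exact ⟨w, w.2, hw.symm⟩

/-- three independent elements generate -/
theorem gen3 {A : Subgroup S} (A8 : Nat.card A = 8) (H : Subgroup S) {z a b : S} (hzA : z ∈ A) (hz1 : z ≠ 1) (hzz : z * z = 1)
    (haA : a ∈ A) (ha1 : a ≠ 1) (haz : a ≠ z) (hbA : b ∈ A) (hb : b ≠ 1) (hbz : b ≠ z) (hba : b ≠ a) (hbza : b ≠ z * a)
    (hzH : z ∈ H) (haH : a ∈ H) (hbH : b ∈ H) : A ≤ H := by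
  classical
  have hd : Nat.card ↥(A ⊓ H) ∣ 8 := by
    rw [← A8]
    exact Subgroup.card_dvd_of_le inf_le_left
  have h5 : 5 ≤ Nat.card ↥(A ⊓ H) := by
    let T : Finset S := {1, z, a, z * a, b}
    have hT : T.card = 5 := by
      have h1 : (1 : S) ∉ ({z, a, z * a, b} : Finset S) := by
        simp only [Finset.mem_insert, Finset.mem_singleton, not_or]
        refine ⟨fun h => hz1 h.symm, fun h => ha1 h.symm, fun h => haz ?_, fun h => hb h.symm⟩
        have h2 : z * (z * a) = z * 1 := by rw [← h]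
        rw [← mul_assoc, hzz, one_mul, mul_one] at h2
        exact h2
      have h2 : z ∉ ({a, z * a, b} : Finset S) := by
        simp only [Finset.mem_insert, Finset.mem_singleton, not_or]
        refine ⟨fun h => haz h.symm, fun h => ha1 ?_, fun h => hbz h.symm⟩
        exact (mul_eq_left.mp h.symm)
      have h3 : a ∉ ({z * a, b} : Finset S) := by
        simp only [Finset.mem_insert, Finset.mem_singleton, not_or]
        refine ⟨fun h => hz1 ?_, fun h => hba h.symm⟩
        exact (mul_eq_right.mp h.symm)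
      have h4 : z * a ∉ ({b} : Finset S) := by
        simp only [Finset.mem_singleton]
        exact fun h => hbza h.symm
      change ({1, z, a, z * a, b} : Finset S).card = 5
      rw [Finset.card_insert_of_notMem h1, Finset.card_insert_of_notMem h2, Finset.card_insert_of_notMem h3, Finset.card_insert_of_notMem h4, Finset.card_singleton]
    have hsub : ∀ x ∈ T, x ∈ A ⊓ H := by
      intro x hx
      simp only [T, Finset.mem_insert, Finset.mem_singleton] at hx
      rcases hx with rfl | rfl | rfl | rfl | rfl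
      · exact one_mem _
      · exact Subgroup.mem_inf.2 ⟨hzA, hzH⟩
      · exact Subgroup.mem_inf.2 ⟨haA, haH⟩
      · exact Subgroup.mem_inf.2 ⟨A.mul_mem hzA haA, H.mul_mem hzH haH⟩
      · exact Subgroup.mem_inf.2 ⟨hbA, hbH⟩
    have h1 := Nat.card_le_card_of_injective (fun x : T => (⟨x.1, hsub x.1 x.2⟩ : ↥(A ⊓ H))) (fun x y hxy => Subtype.ext (congrArg (fun w : ↥(A ⊓ H) => (w : S)) hxy))
    rw [Nat.card_eq_fintype_card, Fintype.card_coe, hT] at h1
    exact h1
  have h8 : Nat.card ↥(A ⊓ H) = 8 := by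
    have h1 := Nat.le_of_dvd (by norm_num) hd
    interval_cases h : Nat.card ↥(A ⊓ H) <;> omega
  have h1 : A ⊓ H = A := Subgroup.eq_of_le_of_card_ge inf_le_left (by rw [h8, A8])
  exact inf_eq_left.mp h1

/-- there is a third element -/
theorem exists_third {A : Subgroup S} (A8 : Nat.card A = 8) (z a : S) :
    ∃ b ∈ A, b ≠ 1 ∧ b ≠ z ∧ b ≠ a ∧ b ≠ z * a := by
  classical
  by_contra hcon
  push Not at hcon
  let T : Finset S := {1, z, a, z * a}
  have hT : T.card ≤ 4 := Finset.card_le_four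
  have hsub : ∀ x : A, (x : S) ∈ T := by
    intro x
    simp only [T, Finset.mem_insert, Finset.mem_singleton]
    by_cases h1 : (x : S) = 1
    · exact Or.inl h1
    by_cases h2 : (x : S) = z
    · exact Or.inr (Or.inl h2)
    by_cases h3 : (x : S) = a
    · exact Or.inr (Or.inr (Or.inl h3))
    exact Or.inr (Or.inr (Or.inr (hcon x x.2 h1 h2 h3)))
  have h1 := Nat.card_le_card_of_injective (fun x : A => (⟨x.1, hsub x⟩ : T)) (fun x y hxy => Subtype.ext (congrArg (fun w : T => (w : S)) hxy))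
  rw [Nat.card_eq_fintype_card (α := T), Fintype.card_coe, A8] at h1
  omega

theorem caseE_of {A V : Subgroup S} (h : HS A V) (V16 : Nat.card V = 16) (X2 : Nat.card ↥(A ⊓ V) = 2)
    (g16 : (∀ x : S, (∀ v ∈ V, x * v = v * x) → x ∈ V) → ∀ (G : Subgroup S) (a t : S), a * a = 1 →
      (∀ s, s ∈ G ↔ s * a * s⁻¹ * a⁻¹ ∈ V) → Nat.card G = 64 → (∀ f ∈ G, f ∉ V → Nat.card ↥(V ⊓ Subgroup.centralizer {f}) ≤ 4) →
      t ∈ G → t ∉ V → t * t ∈ V → (∀ s : S, s * t * s⁻¹ * t⁻¹ ∈ V) → R4 S) : R4 S := by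
  classical
  have hVn : V.Normal := ⟨h.Vn⟩
  have hF2 : Fact (Nat.Prime 2) := ⟨Nat.prime_two⟩
  -- the element z
  obtain ⟨z, hzA, hzV, hz1, hzX⟩ : ∃ z, z ∈ A ∧ z ∈ V ∧ z ≠ 1 ∧ ∀ x ∈ A, x ∈ V → x = 1 ∨ x = z := by
    rw [Nat.card_eq_two_iff] at X2
    obtain ⟨x, y, hxy, hu⟩ := X2
    have hone : (1 : ↥(A ⊓ V)) = x ∨ (1 : ↥(A ⊓ V)) = y := by
      have h1 : (1 : ↥(A ⊓ V)) ∈ ({x, y} : Set ↥(A ⊓ V)) := by rw [hu]; trivial
      simpa using h1
    have hall : ∀ w : ↥(A ⊓ V), w = x ∨ w = y := by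
      intro w
      have h1 : w ∈ ({x, y} : Set ↥(A ⊓ V)) := by rw [hu]; trivial
      simpa using h1
    rcases hone with h1 | h1
    · refine ⟨y, (Subgroup.mem_inf.1 y.2).1, (Subgroup.mem_inf.1 y.2).2, fun h2 => hxy ?_, fun w hwA hwV => ?_⟩
      · rw [← h1]
        exact (Subtype.ext h2).symm
      · rcases hall ⟨w, Subgroup.mem_inf.2 ⟨hwA, hwV⟩⟩ with h2 | h2
        · left
          rw [← h1] at h2
          exact congrArg Subtype.val h2
        · right
          exact congrArg Subtype.val h2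
    · refine ⟨x, (Subgroup.mem_inf.1 x.2).1, (Subgroup.mem_inf.1 x.2).2, fun h2 => hxy ?_, fun w hwA hwV => ?_⟩
      · rw [← h1]
        exact Subtype.ext h2
      · rcases hall ⟨w, Subgroup.mem_inf.2 ⟨hwA, hwV⟩⟩ with h2 | h2
        · right
          exact congrArg Subtype.val h2
        · left
          rw [← h1] at h2
          exact congrArg Subtype.val h2
  have hzz : z * z = 1 := h.Vsq z hzV
  have hVbot : V ≠ ⊥ := by
    intro hb
    rw [hb] at V16
    simp at V16
  have hzc : ∀ s : S, s * z = z * s := by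
    obtain ⟨w, hwV, hwo, hwc⟩ := Cfsg.Agent.H23.exists_central_orderOf h.two hVn hVbot
    have hwA : w ∈ A := h.cent w (fun a _ => (Subgroup.mem_center_iff.1 hwc a).symm)
    rcases hzX w hwA hwV with h1 | h1
    · rw [h1, orderOf_one] at hwo
      omega
    · intro s
      rw [← h1]
      exact Subgroup.mem_center_iff.1 hwc s
  have hne : ∀ a ∈ A, a ∉ V → a ≠ 1 ∧ a ≠ z := by
    intro a ha haV
    constructor
    · rintro rfl
      exact haV (one_mem _)
    · rintro rfl
      exact haV hzV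
  have hnV : ∀ a ∈ A, a ≠ 1 → a ≠ z → a ∉ V := by
    intro a ha h1 h2 h3
    rcases hzX a ha h3 with h4 | h4
    · exact h1 h4
    · exact h2 h4
  have hainv : ∀ a ∈ A, a⁻¹ = a := fun a ha => inv_eq_of_mul_eq_one_left (h.Asq a ha)
  have hVinv : ∀ v ∈ V, v⁻¹ = v := fun v hv => inv_eq_of_mul_eq_one_left (h.Vsq v hv)
  have hVa : ∀ a ∈ A, ∀ v ∈ V, a * v * a ∈ V := by
    intro a ha v hv
    have h1 := h.Vn v hv a
    rwa [hainv a ha] at h1
  -- fixed points of two elements
  have hfix2 : ∀ a ∈ A, a ∉ V → ∀ b ∈ A, b ≠ 1 → b ≠ z → b ≠ a → b ≠ z * a → ∀ s : S, s * a = a * s → s * b = b * s → s ∈ A := by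
    intro a ha haV b hb hb1 hbz hba hbza s hsa hsb
    have h1 : A ≤ centralizer ({s} : Set S) := gen3 h.A8 _ hzA hz1 hzz ha (hne a ha haV).1 (hne a ha haV).2 hb hb1 hbz hba hbza
      (mem_centralizer_singleton_iff.2 (hzc s).symm) (mem_centralizer_singleton_iff.2 hsa.symm) (mem_centralizer_singleton_iff.2 hsb.symm)
    exact h.cent s (fun a ha => (mem_centralizer_singleton_iff.1 (h1 ha)).symm)
  -- C_V(a) has order 4
  have hC2 : ∀ a ∈ A, a ∉ V → ∀ b ∈ A, b ≠ 1 → b ≠ z → b ≠ a → b ≠ z * a → Nat.card ↥((V ⊓ centralizer ({a} : Set S)) ⊓ centralizer ({b} : Set S)) = 2 := by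
    intro a ha haV b hb hb1 hbz hba hbza
    have h1 : (V ⊓ centralizer ({a} : Set S)) ⊓ centralizer ({b} : Set S) = A ⊓ V := by
      ext s
      rw [Subgroup.mem_inf, Subgroup.mem_inf, Subgroup.mem_inf, mem_centralizer_singleton_iff, mem_centralizer_singleton_iff]
      constructor
      · rintro ⟨⟨h1, h2⟩, h3⟩
        exact ⟨hfix2 a ha haV b hb hb1 hbz hba hbza s h2 h3, h1⟩
      · rintro ⟨h1, h2⟩
        exact ⟨⟨h2, h.Acomm s h1 a ha⟩, h.Acomm s h1 b hb⟩
    rw [h1, X2]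
  have hWinv : ∀ a ∈ A, ∀ b ∈ A, ∀ w ∈ V ⊓ centralizer ({a} : Set S), b * w * b ∈ V ⊓ centralizer ({a} : Set S) := by
    intro a ha b hb w hw
    rw [Subgroup.mem_inf, mem_centralizer_singleton_iff] at hw ⊢
    refine ⟨hVa b hb w hw.1, ?_⟩
    have h1 := h.Acomm a ha b hb
    calc b * w * b * a = b * w * (b * a) := by group
      _ = b * w * (a * b) := by rw [h1]
      _ = b * (w * a) * b := by group
      _ = b * (a * w) * b := by rw [hw.2]
      _ = (b * a) * w * b := by group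
      _ = (a * b) * w * b := by rw [h1]
      _ = _ := by group
  have hC4 : ∀ a ∈ A, a ∉ V → Nat.card ↥(V ⊓ centralizer ({a} : Set S)) = 4 := by
    intro a ha haV
    obtain ⟨b, hb, hb1, hbz, hba, hbza⟩ := exists_third h.A8 z a
    have h1 := (comm_map V h.Vcomm h.Vsq a (h.Asq a ha) (hVa a ha)).1
    have h2 := (comm_map (V ⊓ centralizer ({a} : Set S)) (fun v hv w hw => h.Vcomm v (Subgroup.mem_inf.1 hv).1 w (Subgroup.mem_inf.1 hw).1)
      (fun v hv => h.Vsq v (Subgroup.mem_inf.1 hv).1) b (h.Asq b hb) (hWinv a ha b hb)).1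
    rw [hC2 a ha haV b hb hb1 hbz hba hbza] at h2
    rw [V16] at h1
    by_contra hcon
    have h3 : Nat.card ↥(V ⊓ centralizer ({a} : Set S)) ≤ 3 := by omega
    have h4 := Nat.mul_le_mul h3 h3
    omega
  -- Y = A V
  have hA1 : ∃ a ∈ A, a ∉ V := by
    by_contra hcon
    push Not at hcon
    have h1 : A ⊓ V = A := inf_eq_left.2 hcon
    rw [h1, h.A8] at X2
    omega
  obtain ⟨a1, ha1, ha1V⟩ := hA1
  obtain ⟨a2, ha2, ha21, ha2z, ha2a, ha2za⟩ := exists_third h.A8 z a1
  have hinvcomm : ∀ a ∈ A, ∀ f ∈ V, ∀ y : S, f = y⁻¹ * (a * y * a) → f * a = a * f := by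
    intro a ha f hf y hy
    have haa := h.Asq a ha
    have h1 : a * f * a = f⁻¹ := by
      have e1 : a * f * a = (a * y⁻¹ * a) * y * (a * a) := by rw [hy]; group
      rw [e1, haa, mul_one, hy, mul_inv_rev, inv_inv, mul_inv_rev, mul_inv_rev, hainv a ha]
      group
    rw [hVinv f hf] at h1
    calc f * a = (a * f * a) * a := by rw [h1]
      _ = a * f * (a * a) := by group
      _ = a * f := by rw [haa, mul_one]
  have hstep : ∀ a ∈ A, ∀ y v : S, y⁻¹ * (a * y * a) = v⁻¹ * (a * v * a) → (y * v⁻¹) * a = a * (y * v⁻¹) := by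
    intro a ha y v hyv
    have haa := h.Asq a ha
    have h1 : a * y * a = y * (v⁻¹ * (a * v * a)) := by rw [← hyv]; group
    have h2 : a * (y * v⁻¹) * a = y * v⁻¹ := by
      calc a * (y * v⁻¹) * a = (a * y * 1) * v⁻¹ * a := by group
        _ = (a * y * (a * a)) * v⁻¹ * a := by rw [haa]
        _ = (a * y * a) * (a * v⁻¹ * a) := by group
        _ = y * v⁻¹ * (a * v * (a * a) * v⁻¹ * a) := by rw [h1]; group
        _ = y * v⁻¹ * (a * v * 1 * v⁻¹ * a) := by rw [haa]
        _ = y * v⁻¹ * (a * a) := by group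
        _ = _ := by rw [haa, mul_one]
    calc y * v⁻¹ * a = (a * (y * v⁻¹) * a) * a := by rw [h2]
      _ = a * (y * v⁻¹) * (a * a) := by group
      _ = _ := by rw [haa, mul_one]
  have hY : ∀ y : S, (∀ a ∈ A, y⁻¹ * (a * y * a) ∈ V) → ∃ a ∈ A, ∃ v ∈ V, y = a * v := by
    intro y hy
    obtain ⟨v, hv, hfv⟩ := (comm_map V h.Vcomm h.Vsq a1 (h.Asq a1 ha1) (hVa a1 ha1)).2 (by rw [V16, hC4 a1 ha1 ha1V]) _ (hy a1 ha1)
      (hinvcomm a1 ha1 _ (hy a1 ha1) y rfl)
    have hy1 := hstep a1 ha1 y v hfv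
    set y1 := y * v⁻¹ with hy1d
    have hf' : y1⁻¹ * (a2 * y1 * a2) ∈ V := by
      have e1 : y1⁻¹ * (a2 * y1 * a2) = v * (y⁻¹ * (a2 * y * a2)) * (a2 * v⁻¹ * a2) := by
        have haa := h.Asq a2 ha2
        calc y1⁻¹ * (a2 * y1 * a2) = v * (y⁻¹ * (a2 * y * 1)) * v⁻¹ * a2 := by rw [hy1d]; group
          _ = v * (y⁻¹ * (a2 * y * (a2 * a2))) * v⁻¹ * a2 := by rw [haa]
          _ = _ := by group
      rw [e1]
      exact V.mul_mem (V.mul_mem hv (hy a2 ha2)) (hVa a2 ha2 _ (V.inv_mem hv))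
    have hf'1 : (y1⁻¹ * (a2 * y1 * a2)) * a1 = a1 * (y1⁻¹ * (a2 * y1 * a2)) := by
      have h1 : Commute y1 a1 := hy1
      have h2 : Commute a2 a1 := h.Acomm a2 ha2 a1 ha1
      exact ((h1.inv_left).mul_left ((h2.mul_left h1).mul_left h2))
    obtain ⟨u, hu, hfu⟩ := (comm_map (V ⊓ centralizer ({a1} : Set S)) (fun v hv w hw => h.Vcomm v (Subgroup.mem_inf.1 hv).1 w (Subgroup.mem_inf.1 hw).1)
      (fun v hv => h.Vsq v (Subgroup.mem_inf.1 hv).1) a2 (h.Asq a2 ha2) (hWinv a1 ha1 a2 ha2)).2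
      (by rw [hC4 a1 ha1 ha1V, hC2 a1 ha1 ha1V a2 ha2 ha21 ha2z ha2a ha2za]) _
      (Subgroup.mem_inf.2 ⟨hf', mem_centralizer_singleton_iff.2 hf'1⟩) (hinvcomm a2 ha2 _ hf' y1 rfl)
    rw [Subgroup.mem_inf, mem_centralizer_singleton_iff] at hu
    have hy2 := hstep a2 ha2 y1 u hfu
    have hy21 : (y1 * u⁻¹) * a1 = a1 * (y1 * u⁻¹) := by
      have h1 : Commute y1 a1 := hy1
      have h2 : Commute u a1 := hu.2
      exact h1.mul_left h2.inv_left
    have hA := hfix2 a1 ha1 ha1V a2 ha2 ha21 ha2z ha2a ha2za _ hy21 hy2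
    exact ⟨_, hA, u * v, V.mul_mem hu.1 hv, by rw [hy1d]; group⟩
  -- conversions
  have hconv : ∀ a ∈ A, ∀ s : S, s * a * s⁻¹ * a⁻¹ ∈ V ↔ s⁻¹ * (a * s * a) ∈ V := by
    intro a ha s
    have h1 : s⁻¹ * (a * s * a) = (s⁻¹ * (s * a * s⁻¹ * a⁻¹)⁻¹ * s) := by
      rw [mul_inv_rev, mul_inv_rev, mul_inv_rev, inv_inv, inv_inv, hainv a ha]
      group
    constructor
    · intro h2
      rw [h1]
      have h3 := h.Vn _ (V.inv_mem h2) s⁻¹
      rwa [inv_inv] at h3
    · intro h2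
      have h3 : s * a * s⁻¹ * a⁻¹ = (s * (s⁻¹ * (a * s * a)) * s⁻¹)⁻¹ := by
        rw [h1]; group
      rw [h3]
      exact V.inv_mem (h.Vn _ h2 s)
  -- C_S(V) = V
  have hCV : ∀ x : S, (∀ v ∈ V, x * v = v * x) → x ∈ V := by
    by_contra hcon
    push Not at hcon
    obtain ⟨x0, hx0, hx0V⟩ := hcon
    have hCn : (centralizer (V : Set S)).Normal := by
      infer_instance
    have hlt : V < centralizer (V : Set S) := by
      refine lt_of_le_of_ne (fun v hv => Subgroup.mem_centralizer_iff.2 (fun w hw => h.Vcomm w hw v hv)) ?_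
      intro h1
      apply hx0V
      rw [h1]
      exact Subgroup.mem_centralizer_iff.2 (fun w hw => (hx0 w hw).symm)
    obtain ⟨y, hyC, hyV, -, hyc, -, -⟩ := Cfsg.Agent.H23.exists_step h.two hVn hCn hlt
    obtain ⟨a, ha, v, hv, hav⟩ := hY y (fun a ha => (hconv a ha y).1 (hyc a))
    have haC : ∀ w ∈ V, a * w = w * a := by
      intro w hw
      have h1 := Subgroup.mem_centralizer_iff.1 hyC w hw
      have h2 := h.Vcomm v hv w hw
      rw [hav] at h1
      apply mul_right_cancel (b := v)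
      calc a * w * v = a * (w * v) := by group
        _ = a * (v * w) := by rw [h2]
        _ = a * v * w := by group
        _ = w * (a * v) := h1.symm
        _ = _ := by group
    have haV : a ∈ V := by
      by_contra haV
      have h1 := hC4 a ha haV
      have h2 : V ⊓ centralizer ({a} : Set S) = V := inf_eq_left.2 (fun w hw => mem_centralizer_singleton_iff.2 (haC w hw).symm)
      rw [h2, V16] at h1
      omega
    apply hyV
    rw [hav]
    exact V.mul_mem haV hv
  -- the element t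
  have hltop : V < ⊤ := by
    refine lt_of_le_of_ne le_top ?_
    intro h1
    apply ha1V
    rw [h1]
    trivial
  obtain ⟨t0, -, ht0V, -, ht0c, -, -⟩ := Cfsg.Agent.H23.exists_step h.two hVn (inferInstance : (⊤ : Subgroup S).Normal) hltop
  obtain ⟨t, ht, v0, hv0, htv⟩ := hY t0 (fun a ha => (hconv a ha t0).1 (ht0c a))
  have htV : t ∉ V := by
    intro h1
    apply ht0V
    rw [htv]
    exact V.mul_mem h1 hv0
  have htc : ∀ s : S, s * t * s⁻¹ * t⁻¹ ∈ V := by
    intro s
    have h1 := V.inv_mem (ht0c s)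
    -- (t0 s t0⁻¹ s⁻¹)⁻¹ = s t0 s⁻¹ t0⁻¹
    have h2 : s * t0 * s⁻¹ * t0⁻¹ ∈ V := by
      have h3 : (t0 * s * t0⁻¹ * s⁻¹)⁻¹ = s * t0 * s⁻¹ * t0⁻¹ := by group
      rwa [h3] at h1
    have h4 : s * t * s⁻¹ * t⁻¹ = (s * t0 * s⁻¹ * t0⁻¹) * (t0 * (s * v0⁻¹ * s⁻¹) * t0⁻¹) * (t0 * v0 * t0⁻¹) := by
      have h5 : t = t0 * v0⁻¹ := by rw [htv]; group
      rw [h5]; group
    rw [h4]
    exact V.mul_mem (V.mul_mem h2 (h.Vn _ (h.Vn _ (V.inv_mem hv0) s) t0)) (h.Vn _ hv0 t0)
  obtain ⟨a, ha, haa1, haz, hat, hazt⟩ := exists_third h.A8 z t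
  have haV := hnV a ha haa1 haz
  -- G = A V
  have hGmem : ∀ s, s ∈ A ⊔ V ↔ s * a * s⁻¹ * a⁻¹ ∈ V := by
    intro s
    constructor
    · intro hs
      obtain ⟨b, hb, v, hv, rfl⟩ := (Subgroup.mem_sup_of_normal_right (s := A) (t := V)).1 hs
      have h1 : b * v * a * (b * v)⁻¹ * a⁻¹ = b * v * (a * v⁻¹ * a⁻¹) * b⁻¹ := by
        have h2 : a * b⁻¹ = b⁻¹ * a := by rw [hainv b hb]; exact h.Acomm a ha b hb
        calc b * v * a * (b * v)⁻¹ * a⁻¹ = b * v * a * v⁻¹ * (b⁻¹ * a⁻¹) := by group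
          _ = b * v * a * v⁻¹ * (a⁻¹ * b⁻¹) := by
            congr 1
            rw [hainv b hb, hainv a ha]
            exact h.Acomm b hb a ha
          _ = _ := by group
      rw [h1]
      have h2 := h.Vn _ (V.mul_mem hv (h.Vn _ (V.inv_mem hv) a)) b
      have h3 : b * (v * (a * v⁻¹ * a⁻¹)) * b⁻¹ = b * v * (a * v⁻¹ * a⁻¹) * b⁻¹ := by group
      rwa [h3] at h2
    · intro hs
      -- {b : s b s⁻¹ b⁻¹ ∈ V} is a subgroup
      let H : Subgroup S :=
        { carrier := {b | s * b * s⁻¹ * b⁻¹ ∈ V}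
          one_mem' := by
            change s * 1 * s⁻¹ * 1⁻¹ ∈ V
            have h1 : s * 1 * s⁻¹ * 1⁻¹ = 1 := by group
            rw [h1]; exact one_mem _
          mul_mem' := by
            intro b c hb hc
            change s * (b * c) * s⁻¹ * (b * c)⁻¹ ∈ V
            have h1 : s * (b * c) * s⁻¹ * (b * c)⁻¹ = (s * b * s⁻¹ * b⁻¹) * (b * (s * c * s⁻¹ * c⁻¹) * b⁻¹) := by group
            rw [h1]
            exact V.mul_mem hb (h.Vn _ hc b)
          inv_mem' := by
            intro b hb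
            change s * b⁻¹ * s⁻¹ * b⁻¹⁻¹ ∈ V
            have h1 : s * b⁻¹ * s⁻¹ * b⁻¹⁻¹ = b⁻¹ * (s * b * s⁻¹ * b⁻¹)⁻¹ * b⁻¹⁻¹ := by group
            rw [h1]
            exact h.Vn _ (V.inv_mem hb) b⁻¹ }
      have hAH : A ≤ H := by
        apply gen3 h.A8 H hzA hz1 hzz ht (hne t ht htV).1 (hne t ht htV).2 ha haa1 haz hat hazt
        · change s * z * s⁻¹ * z⁻¹ ∈ V
          rw [hzc s]
          have h1 : z * s * s⁻¹ * z⁻¹ = 1 := by group
          rw [h1]; exact one_mem _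
        · exact htc s
        · exact hs
      obtain ⟨b, hb, v, hv, rfl⟩ := hY s (fun b hb => (hconv b hb s).1 (hAH hb))
      exact Subgroup.mul_mem_sup hb hv
  have hG64 : Nat.card ↥(A ⊔ V) = 64 := by
    have h1 := Subgroup.relIndex_mul_relIndex ⊥ V (A ⊔ V) bot_le le_sup_right
    rw [Subgroup.relIndex_bot_left, Subgroup.relIndex_bot_left, Subgroup.relIndex_sup_right, V16] at h1
    have h2 := Subgroup.relIndex_mul_relIndex ⊥ (V ⊓ A) A bot_le inf_le_right
    rw [Subgroup.relIndex_bot_left, Subgroup.relIndex_bot_left, Subgroup.inf_relIndex_right, inf_comm, X2, h.A8] at h2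
    omega
  apply g16 hCV (A ⊔ V) a t (h.Asq a ha) hGmem hG64 _ (Subgroup.mem_sup_left ht) htV (by rw [h.Asq t ht]; exact one_mem _) htc
  intro f hf hfV
  obtain ⟨b, hb, v, hv, rfl⟩ := (Subgroup.mem_sup_of_normal_right (s := A) (t := V)).1 hf
  have hbV : b ∉ V := fun h1 => hfV (V.mul_mem h1 hv)
  have h1 : V ⊓ centralizer ({b * v} : Set S) ≤ V ⊓ centralizer ({b} : Set S) := by
    intro w hw
    rw [Subgroup.mem_inf, mem_centralizer_singleton_iff] at hw ⊢
    refine ⟨hw.1, ?_⟩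
    have h2 := h.Vcomm v hv w hw.1
    apply mul_right_cancel (b := v)
    calc w * b * v = w * (b * v) := by group
      _ = b * v * w := hw.2
      _ = b * (v * w) := by group
      _ = b * (w * v) := by rw [h2]
      _ = _ := by group
  exact (Subgroup.card_le_of_le h1).trans (hC4 b hb hbV).le

end

end Cfsg.Agent.H99.HarE
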