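import Mathlib

set_option autoImplicit false

namespace Cfsg.Agent.H99.NumTC

theorem sq_of_coprime {a b c : ℕ} (h : Nat.Coprime a b) (heq : a * b = c ^ 2) : ∃ d, a = d ^ 2 :=
  exists_eq_pow_of_mul_eq_pow (by rw [gcd_eq_nat_gcd, h]; exact isUnit_one) heq

theorem num_main {p r z t : ℕ} (hp : p.Prime) (hp2 : p ≠ 2) (hz : z.Prime) (hr : z = r + 1) (hr3 : 3 ≤ r)
    (hppd : ∀ i, 0 < i → i < r → ¬ z ∣ p ^ i - 1) (h : p ^ r - 1 = z * t ^ 2) : r = 4 := by
  have hzodd : z % 2 = 1 := (hz.eq_two_or_odd).resolve_left (by omega)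
  have hpodd : p % 2 = 1 := (hp.eq_two_or_odd).resolve_left hp2
  have hp3 : 3 ≤ p := by have := hp.two_le; omega
  obtain ⟨h', rfl⟩ : ∃ h', r = 2 * h' := ⟨r / 2, by omega⟩
  have hPodd : p ^ h' % 2 = 1 := by
    rw [← Nat.odd_iff] at hpodd ⊢
    exact hpodd.pow
  have hP1 : 1 < p ^ h' := Nat.one_lt_pow (by omega) (by omega)
  have hPP : p ^ (2 * h') - 1 = (p ^ h' + 1) * (p ^ h' - 1) := by
    have h1 := Nat.sq_sub_sq (p ^ h') 1
    rwa [one_pow, ← pow_mul, mul_comm h' 2] at h1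
  obtain ⟨w, hw⟩ : z ∣ p ^ h' + 1 := by
    have h1 : z ∣ (p ^ h' + 1) * (p ^ h' - 1) := by
      rw [← hPP, h]
      exact dvd_mul_right _ _
    exact ((Nat.Prime.dvd_mul hz).mp h1).resolve_right (hppd h' (by omega) (by omega))
  have hwt : w * (p ^ h' - 1) = t ^ 2 := by
    rw [hPP, hw] at h
    apply Nat.eq_of_mul_eq_mul_left hz.pos
    rw [← h]; ring
  obtain ⟨x, hx⟩ : ∃ x, p ^ h' = 2 * x + 1 := ⟨p ^ h' / 2, by omega⟩
  obtain ⟨y, rfl⟩ : ∃ y, w = 2 * y := by
    have h1 : Even (z * w) := by rw [← hw, hx]; exact ⟨x + 1, by ring⟩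
    rw [Nat.even_mul] at h1
    have h2 := h1.resolve_left (by rw [Nat.even_iff]; omega)
    obtain ⟨y, hy⟩ := h2
    exact ⟨y, by omega⟩
  have hzy : z * y = x + 1 := by
    rw [hx] at hw
    have h1 : z * (2 * y) = 2 * (z * y) := by ring
    rw [h1] at hw
    omega
  have hxy : 4 * (x * y) = t ^ 2 := by
    rw [← hwt, hx, Nat.add_sub_cancel]; ring
  obtain ⟨s, rfl⟩ : ∃ s, t = 2 * s := by
    have h1 : Even (t ^ 2) := by rw [← hxy]; exact ⟨2 * (x * y), by ring⟩
    rw [Nat.even_pow] at h1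
    obtain ⟨s, hs⟩ := h1.1
    exact ⟨s, by omega⟩
  have hxys : x * y = s ^ 2 := by
    have h1 : (2 * s) ^ 2 = 4 * s ^ 2 := by ring
    rw [h1] at hxy
    omega
  have hcop : Nat.Coprime x y := by
    have h1 : Nat.Coprime x (z * y) := by rw [hzy]; exact (Nat.coprime_self_add_right (m := x) (n := 1)).mpr (Nat.coprime_one_right x)
    exact Nat.Coprime.coprime_mul_left_right h1
  obtain ⟨a, ha⟩ := sq_of_coprime hcop hxys
  obtain ⟨b, hb⟩ := sq_of_coprime hcop.symm (by rw [mul_comm]; exact hxys)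
  subst ha hb
  haveI : Fact z.Prime := ⟨hz⟩
  haveI : Fact p.Prime := ⟨hp⟩
  have hz4 : z % 4 = 1 := by
    have h1 : IsSquare (-1 : ZMod z) := by
      refine ⟨(a : ZMod z), ?_⟩
      have h2 := congrArg (Nat.cast : ℕ → ZMod z) hzy
      push_cast at h2
      rw [ZMod.natCast_self] at h2
      linear_combination h2
    have h2 := ZMod.exists_sq_eq_neg_one_iff.mp h1
    omega
  obtain ⟨j, rfl⟩ : ∃ j, h' = 2 * j := ⟨h' / 2, by omega⟩
  have hQodd : p ^ j % 2 = 1 := by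
    rw [← Nat.odd_iff] at hpodd ⊢
    exact hpodd.pow
  obtain ⟨u, hu⟩ : ∃ u, p ^ j = 2 * u + 1 := ⟨p ^ j / 2, by omega⟩
  have hj : 0 < j := by omega
  have hua : 2 * (u * (u + 1)) = a ^ 2 := by
    have h1 : p ^ (2 * j) = (p ^ j) ^ 2 := by rw [← pow_mul, mul_comm]
    rw [h1, hu] at hx
    have h2 : (2 * u + 1) ^ 2 = 2 * (2 * (u * (u + 1))) + 1 := by ring
    rw [h2] at hx
    omega
  obtain ⟨c, rfl⟩ : ∃ c, a = 2 * c := by
    have h1 : Even (a ^ 2) := by rw [← hua]; exact ⟨u * (u + 1), by ring⟩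
    rw [Nat.even_pow] at h1
    obtain ⟨s, hs⟩ := h1.1
    exact ⟨s, by omega⟩
  have huc : u * (u + 1) = 2 * c ^ 2 := by
    have h1 : (2 * c) ^ 2 = 2 * (2 * c ^ 2) := by ring
    rw [h1] at hua
    omega
  rcases Nat.even_or_odd' u with ⟨v, hv | hv⟩
  · exfalso
    have h1 : (2 * v + 1) * v = c ^ 2 := by
      rw [hv] at huc
      have h2 : 2 * v * (2 * v + 1) = 2 * ((2 * v + 1) * v) := by ring
      rw [h2] at huc
      omega
    have hcop2 : Nat.Coprime (2 * v + 1) v := by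
      rw [mul_comm, add_comm]
      exact (Nat.coprime_add_mul_left_left 1 v 2).mpr (Nat.coprime_one_left v)
    obtain ⟨e, he⟩ := sq_of_coprime hcop2 h1
    have hQ0 : ((p ^ j : ℕ) : ZMod p) = 0 := by
      rw [Nat.cast_pow, ZMod.natCast_self, zero_pow (by omega)]
    have hP0 : ((p ^ (2 * j) : ℕ) : ZMod p) = 0 := by
      rw [Nat.cast_pow, ZMod.natCast_self, zero_pow (by omega)]
    have h2e : (2 : ZMod p) * (e : ZMod p) ^ 2 = 1 := by
      have h3 : p ^ j + 1 = 2 * e ^ 2 := by rw [hu, hv, ← he]; ring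
      have h4 := congrArg (Nat.cast : ℕ → ZMod p) h3
      rw [Nat.cast_add, hQ0] at h4
      push_cast at h4
      linear_combination -h4
    have h2z : (2 : ZMod p) * (z : ZMod p) * (b : ZMod p) ^ 2 = 1 := by
      have h3 : 2 * z * b ^ 2 = p ^ (2 * j) + 1 := by rw [hx, mul_assoc, hzy]; ring
      have h4 := congrArg (Nat.cast : ℕ → ZMod p) h3
      rw [Nat.cast_add, hP0] at h4
      push_cast at h4
      linear_combination h4
    have h20 : (2 : ZMod p) ≠ 0 := by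
      intro h0
      rw [h0, zero_mul] at h2e
      exact zero_ne_one h2e
    have hb0 : (b : ZMod p) ≠ 0 := by
      intro h0
      rw [h0] at h2z
      apply zero_ne_one (α := ZMod p)
      rw [← h2z]; ring
    have hsqz : IsSquare (z : ZMod p) := by
      refine ⟨(e : ZMod p) * (b : ZMod p)⁻¹, ?_⟩
      have h3 : (z : ZMod p) * (b : ZMod p) ^ 2 = (e : ZMod p) ^ 2 := by
        apply mul_left_cancel₀ h20
        linear_combination h2z - h2e
      field_simp
      linear_combination h3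
    have hsqp : IsSquare (p : ZMod z) := (ZMod.exists_sq_eq_prime_iff_of_mod_four_eq_one hz4 hp2).mpr hsqz
    obtain ⟨g, hg⟩ := hsqp
    have hg0 : g ≠ 0 := by
      rintro rfl
      rw [mul_zero, ZMod.natCast_eq_zero_iff] at hg
      rw [Nat.prime_dvd_prime_iff_eq hz hp] at hg
      subst hg
      have h3 : z ∣ 1 := by
        have h4 : z ∣ z ^ (2 * j) := dvd_pow_self z (by omega)
        have h5 : z ∣ z ^ (2 * j) + 1 := ⟨_, hw⟩
        exact (Nat.dvd_add_right h4).mp h5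
      exact hz.one_lt.ne' (Nat.dvd_one.mp h3)
    apply hppd (2 * j) (by omega) (by omega)
    have h3 : ((p : ℕ) : ZMod z) ^ (2 * j) = 1 := by
      rw [hg, ← pow_two, ← pow_mul]
      have h4 := ZMod.pow_card_sub_one_eq_one hg0
      rwa [show z - 1 = 2 * (2 * j) by omega] at h4
    rw [← ZMod.natCast_eq_zero_iff, Nat.cast_sub (Nat.one_le_pow _ _ hp.pos), Nat.cast_pow, h3, Nat.cast_one, sub_self]
  · have h1 : (v + 1) * (2 * v + 1) = c ^ 2 := by
      rw [hv] at huc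
      have h2 : (2 * v + 1) * (2 * v + 1 + 1) = 2 * ((v + 1) * (2 * v + 1)) := by ring
      rw [h2] at huc
      omega
    have hcop2 : Nat.Coprime (v + 1) (2 * v + 1) := by
      have h2 : 2 * v + 1 = v + (v + 1) := by ring
      rw [h2, Nat.coprime_add_self_right, Nat.coprime_comm]
      exact (Nat.coprime_self_add_right (m := v) (n := 1)).mpr (Nat.coprime_one_right v)
    obtain ⟨d, hd⟩ := sq_of_coprime hcop2 h1
    have hd0 : 0 < d := by
      rcases Nat.eq_zero_or_pos d with h0 | h0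
      · rw [h0] at hd; omega
      · exact h0
    obtain ⟨d', rfl⟩ : ∃ d', d = d' + 1 := ⟨d - 1, by omega⟩
    have hQ : p ^ j = (2 * d' + 1) * (2 * d' + 3) := by
      rw [hu, hv]
      have h2 : 2 * (2 * v + 1) + 1 = 4 * (v + 1) - 1 := by omega
      rw [h2, hd]
      have h3 : 4 * (d' + 1) ^ 2 = (2 * d' + 1) * (2 * d' + 3) + 1 := by ring
      rw [h3, Nat.add_sub_cancel]
    obtain ⟨α, hα, hα'⟩ := (Nat.dvd_prime_pow hp).mp (show 2 * d' + 1 ∣ p ^ j from ⟨_, hQ⟩)
    obtain ⟨β, hβ, hβ'⟩ := (Nat.dvd_prime_pow hp).mp (show 2 * d' + 3 ∣ p ^ j from ⟨_, by rw [hQ, mul_comm]⟩)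
    have hα0 : α = 0 := by
      by_contra hne
      have hβ0 : β ≠ 0 := by
        rintro rfl
        rw [pow_zero] at hβ'
        omega
      have h2 : p ∣ 2 * d' + 1 := by rw [hα']; exact dvd_pow_self p hne
      have h3 : p ∣ 2 * d' + 3 := by rw [hβ']; exact dvd_pow_self p hβ0
      have h4 : p ∣ 2 := by
        have h5 := Nat.dvd_sub h3 h2
        rwa [show 2 * d' + 3 - (2 * d' + 1) = 2 by omega] at h5
      exact hp2 ((Nat.prime_dvd_prime_iff_eq hp Nat.prime_two).mp h4)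
    rw [hα0, pow_zero] at hα'
    have hd'0 : d' = 0 := by omega
    rw [hd'0] at hQ
    have hj1 : j = 1 := by
      by_contra hne
      have h2 : p ^ 2 ≤ p ^ j := Nat.pow_le_pow_right hp.pos (by omega)
      have h3 : 3 ^ 2 ≤ p ^ 2 := Nat.pow_le_pow_left hp3 2
      omega
    omega

end Cfsg.Agent.H99.NumTC
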