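import Cfsg.Agent.JY.SzGraph
import Cfsg.Agent.J1.Cent
import Cfsg.Agent.H62.W2
import Cfsg.Prelude.Def_LocalEven

/-! Pieces of S2755: Suzuki groups have order prime to 3; J₁ has abelian Sylow 2-subgroups and involves `S₃`. -/

set_option autoImplicit false

namespace Cfsg.Agent.H99.Rt

theorem sz {G : Type*} [Group G] [Finite G] (h : Cfsg.Lie.IsoSuzuki G) : ¬ 3 ∣ Nat.card G := by
  obtain ⟨F, _, _, m, hm, hF, ⟨e⟩⟩ := h
  rw [Nat.card_congr e.toEquiv, Cfsg.Agent.JY.lie_card hm hF]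
  exact Cfsg.Agent.JY.not_three_dvd_sz m

theorem sylow_ab_of_one {G : Type*} [Group G] [Finite G] (A : Subgroup G) (hA : Nat.card A = 8)
    (hAc : ∀ x ∈ A, ∀ y ∈ A, x * y = y * x) (h16 : ¬ 16 ∣ Nat.card G) :
    ∀ S : Sylow 2 G, ∀ x ∈ S, ∀ y ∈ S, x * y = y * x := by
  haveI : Fact (Nat.Prime 2) := ⟨Nat.prime_two⟩
  have hAp : IsPGroup 2 A := IsPGroup.of_card (n := 3) (by rw [hA]; norm_num)
  obtain ⟨P, hP⟩ := hAp.exists_le_sylow
  intro S x hx y hy
  have hPc : Nat.card P = 8 := by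
    obtain ⟨n, hn⟩ := P.2.exists_card_eq
    have h1 : Nat.card P ∣ Nat.card G := Subgroup.card_subgroup_dvd_card _
    have h2 : Nat.card A ∣ Nat.card P := Subgroup.card_dvd_of_le hP
    have hn3 : n < 4 := by
      by_contra hcon
      apply h16
      have : 2 ^ 4 ∣ Nat.card P := by rw [hn]; exact pow_dvd_pow 2 (by omega)
      exact this.trans h1
    have hn4 : 3 ≤ n := by
      rw [hA, hn] at h2
      have := Nat.le_of_dvd (by positivity) h2
      by_contra hcon
      have : n ≤ 2 := by omega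
      have := Nat.pow_le_pow_right (n := 2) (by norm_num) this
      omega
    have : n = 3 := by omega
    rw [hn, this]; norm_num
  have hPA : A = (P : Subgroup G) := Subgroup.eq_of_le_of_card_ge hP (by rw [hA]; exact hPc.le)
  obtain ⟨g, rfl⟩ := MulAction.exists_smul_eq G P S
  have hmem : ∀ z : G, z ∈ ((g • P : Sylow 2 G) : Subgroup G) → g⁻¹ * z * g ∈ A := by
    intro z hz
    rw [Sylow.coe_subgroup_smul, Subgroup.mem_pointwise_smul_iff_inv_smul_mem] at hz
    rw [hPA]
    simpa [MulAut.smul_def, MulAut.conj_apply, mul_assoc, ← map_inv] using hz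
  have h1 := hAc _ (hmem x hx) _ (hmem y hy)
  have h2 : g⁻¹ * x * g * (g⁻¹ * y * g) = g⁻¹ * (x * y) * g := by group
  have h3 : g⁻¹ * y * g * (g⁻¹ * x * g) = g⁻¹ * (y * x) * g := by group
  rw [h2, h3] at h1
  exact mul_left_cancel (mul_right_cancel h1)

theorem j1 {G : Type*} [Group G] [Finite G] (h : Cfsg.Spor.IsoJ1 G) :
    (∀ S : Sylow 2 G, ∀ x ∈ S, ∀ y ∈ S, x * y = y * x) ∧ Cfsg.Involves (Equiv.Perm (Fin 3)) G := by
  obtain ⟨e⟩ := h
  constructor
  · apply sylow_ab_of_one (Cfsg.Agent.J1.SJ.map e.symm.toMonoidHom)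
    · rw [Nat.card_congr (Cfsg.Agent.J1.SJ.equivMapOfInjective _ e.symm.injective).toEquiv.symm]
      exact Cfsg.Agent.J1.card_SJ
    · rintro _ ⟨x, hx, rfl⟩ _ ⟨y, hy, rfl⟩
      change e.symm x * e.symm y = e.symm y * e.symm x
      rw [← map_mul, ← map_mul, Cfsg.Agent.J1.SJ_comm hx hy]
    · rw [Nat.card_congr e.toEquiv]
      change ¬ 16 ∣ Nat.card Cfsg.Agent.J1.J
      rw [Cfsg.Agent.J1.card_J]
      norm_num
  · obtain ⟨f⟩ := Cfsg.Agent.J1.centralizer_iso
    let a : alternatingGroup (Fin 5) := ⟨Equiv.swap 0 1 * Equiv.swap 1 2, by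
      rw [Equiv.Perm.mem_alternatingGroup]; decide⟩
    let b : alternatingGroup (Fin 5) := ⟨Equiv.swap 0 1 * Equiv.swap 3 4, by
      rw [Equiv.Perm.mem_alternatingGroup]; decide⟩
    have ha3 : a ^ 3 = 1 := by decide
    have ha1 : a ≠ 1 := by decide
    have hb2 : b ^ 2 = 1 := by decide
    have hb1 : b ≠ 1 := by decide
    have hab : b * a * b⁻¹ = a⁻¹ := by decide
    let φ : alternatingGroup (Fin 5) →* G :=
      e.symm.toMonoidHom.comp ((Subgroup.subtype _).comp (f.symm.toMonoidHom.comp (MonoidHom.inr _ _)))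
    have hφ : Function.Injective φ := by
      intro x y hxy
      have h1 := e.symm.injective hxy
      have h2 := Subtype.ext h1
      have h3 := f.symm.injective h2
      exact (Prod.mk.inj h3).2
    apply Cfsg.Agent.H62.involves_S3_of_inverted (x := φ b) (y := φ a)
    · refine ⟨1, ?_⟩
      rw [pow_one]
      apply orderOf_eq_prime
      · rw [← map_pow, hb2, map_one]
      · intro hh
        exact hb1 (hφ (by rw [hh, map_one]))
    · rw [← map_pow, ha3, map_one]
    · intro hh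
      exact ha1 (hφ (by rw [hh, map_one]))
    · rw [← map_mul, ← map_inv, ← map_mul, hab, map_inv]

end Cfsg.Agent.H99.Rt
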