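import Mathlib

set_option autoImplicit false

/-! Counting subspaces (helper99). -/

namespace Cfsg.Agent.H99

open Module

/-- ∏_{s<n} (q^(s+1) - 1) -/
def qfac (q n : ℕ) : ℕ := ∏ s ∈ Finset.range n, (q ^ (s + 1) - 1)

lemma qfac_succ (q n : ℕ) : qfac q (n + 1) = qfac q n * (q ^ (n + 1) - 1) := Finset.prod_range_succ _ _

lemma qfac_pos {q : ℕ} (hq : 2 ≤ q) (n : ℕ) : 0 < qfac q n := by
  apply Finset.prod_pos
  intro s _
  have : 1 < q ^ (s + 1) := Nat.one_lt_pow (by omega) (by omega)
  omega

/-- ∏_{j<m} (q^n - q^j) = q^(0+...+(m-1)) ∏_{n-m<s≤n} (q^s-1) -/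
lemma prod_sub_mul_qfac {q : ℕ} (hq : 2 ≤ q) (n m : ℕ) (h : m ≤ n) :
    (∏ j ∈ Finset.range m, (q ^ n - q ^ j)) * qfac q (n - m) = q ^ (∑ j ∈ Finset.range m, j) * qfac q n := by
  induction m with
  | zero => simp
  | succ m ih =>
    have h1 := ih (by omega)
    have h2 : n - m = (n - (m + 1)) + 1 := by omega
    rw [h2, qfac_succ, ← h2] at h1
    rw [Finset.prod_range_succ, Finset.sum_range_succ, pow_add]
    have h3 : q ^ n - q ^ m = q ^ m * (q ^ (n - m) - 1) := by
      rw [Nat.mul_sub, mul_one, ← pow_add]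
      congr 2
      omega
    rw [h3]
    calc (∏ j ∈ Finset.range m, (q ^ n - q ^ j)) * (q ^ m * (q ^ (n - m) - 1)) * qfac q (n - (m + 1))
        = q ^ m * ((∏ j ∈ Finset.range m, (q ^ n - q ^ j)) * (qfac q (n - (m + 1)) * (q ^ (n - m) - 1))) := by ring
      _ = _ := by rw [h1]; ring

section
variable {F V : Type*} [Field F] [Finite F] [AddCommGroup V] [Module F V] [FiniteDimensional F V]

/-- independent `m`-tuples spanning `W` correspond to bases of `W` -/
noncomputable def liFiberEquiv (m : ℕ) (W : {W : Submodule F V // finrank F W = m}) :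
    {s : {s : Fin m → V // LinearIndependent F s} // Submodule.span F (Set.range s.1) = W.1} ≃
      {s : Fin m → W.1 // LinearIndependent F s} where
  toFun s := ⟨fun j => ⟨s.1.1 j, s.2.le (Submodule.subset_span ⟨j, rfl⟩)⟩, by
      have h := s.1.2
      rw [← LinearMap.linearIndependent_iff W.1.subtype (Submodule.ker_subtype _)]
      exact h⟩
  invFun x := ⟨⟨fun j => (x.1 j : V), x.2.map' W.1.subtype (Submodule.ker_subtype _)⟩, by
    apply Submodule.eq_of_le_of_finrank_eq
    · rw [Submodule.span_le]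
      rintro _ ⟨j, rfl⟩
      exact (x.1 j).2
    · have hs' : LinearIndependent F (fun j => (x.1 j : V)) := x.2.map' W.1.subtype (Submodule.ker_subtype _)
      rw [finrank_span_eq_card hs', Fintype.card_fin, W.2]⟩
  left_inv s := rfl
  right_inv s := rfl

/-- independent `m`-tuples correspond to bases of `m`-dimensional subspaces -/
lemma card_li_eq_sum (m : ℕ) [Fintype {W : Submodule F V // finrank F W = m}] :
    Nat.card {s : Fin m → V // LinearIndependent F s} =
      ∑ W : {W : Submodule F V // finrank F W = m}, Nat.card {s : Fin m → W.1 // LinearIndependent F s} := by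
  have hFV : Finite V := Module.finite_of_finite F
  let g : {s : Fin m → V // LinearIndependent F s} → {W : Submodule F V // finrank F W = m} := fun s =>
    ⟨Submodule.span F (Set.range s.1), by rw [finrank_span_eq_card s.2, Fintype.card_fin]⟩
  rw [← Nat.card_congr (Equiv.sigmaFiberEquiv g), Nat.card_sigma]
  apply Finset.sum_congr rfl
  intro W _
  rw [← Nat.card_congr (liFiberEquiv m W)]
  apply Nat.card_congr
  apply Equiv.subtypeEquivRight
  intro s
  exact Subtype.ext_iff

theorem card_subspaces_mul (m : ℕ) (h : m ≤ finrank F V) :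
    Nat.card {W : Submodule F V // finrank F W = m} * (qfac (Nat.card F) m * qfac (Nat.card F) (finrank F V - m))
      = qfac (Nat.card F) (finrank F V) := by
  set n := finrank F V with hn
  set q := Nat.card F with hq
  have hq2 : 2 ≤ q := Finite.one_lt_card
  have := Fintype.ofFinite F
  have hFV : Finite V := Module.finite_of_finite F
  have hfs : Finite (Submodule F V) := inferInstance
  have hfW : Fintype {W : Submodule F V // finrank F W = m} := Fintype.ofFinite _
  have h1 := card_li_eq_sum (F := F) (V := V) m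
  have h2 : ∀ W : {W : Submodule F V // finrank F W = m}, Nat.card {s : Fin m → W.1 // LinearIndependent F s}
      = ∏ j ∈ Finset.range m, (q ^ m - q ^ j) := by
    intro W
    rw [card_linearIndependent (K := F) (V := W.1) (k := m) (by rw [W.2])]
    rw [W.2, ← Fin.prod_univ_eq_prod_range (fun j => q ^ m - q ^ j), hq, Nat.card_eq_fintype_card]
  have h3 : Nat.card {s : Fin m → V // LinearIndependent F s} = ∏ j ∈ Finset.range m, (q ^ n - q ^ j) := by
    rw [card_linearIndependent (K := F) (V := V) (k := m) (by omega)]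
    rw [← Fin.prod_univ_eq_prod_range (fun j => q ^ n - q ^ j), hq, Nat.card_eq_fintype_card]
  have h4 : ∑ W : {W : Submodule F V // finrank F W = m}, Nat.card {s : Fin m → W.1 // LinearIndependent F s}
      = Nat.card {W : Submodule F V // finrank F W = m} * ∏ j ∈ Finset.range m, (q ^ m - q ^ j) := by
    rw [Finset.sum_congr rfl (fun W _ => h2 W), Finset.sum_const, smul_eq_mul, Finset.card_univ,
      Nat.card_eq_fintype_card]
  rw [h3, h4] at h1
  have h5 := prod_sub_mul_qfac hq2 n m h
  have h6 := prod_sub_mul_qfac hq2 m m le_rfl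
  rw [Nat.sub_self] at h6
  have h7 : qfac q 0 = 1 := by simp [qfac]
  rw [h7, mul_one] at h6
  rw [h1, h6] at h5
  have h8 : 0 < q ^ ∑ j ∈ Finset.range m, j := pow_pos (by omega) _
  have h9 : q ^ (∑ j ∈ Finset.range m, j) * (Nat.card {W : Submodule F V // finrank F W = m} * (qfac q m * qfac q (n - m)))
      = q ^ (∑ j ∈ Finset.range m, j) * qfac q n := by rw [← h5]; ring
  exact Nat.eq_of_mul_eq_mul_left h8 h9

end

lemma qfac_eq_mul {q : ℕ} {n m : ℕ} (h : m ≤ n) :
    qfac q n = qfac q (n - m) * ∏ j ∈ Finset.range m, (q ^ (n - j) - 1) := by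
  induction m with
  | zero => simp
  | succ m ih =>
    rw [ih (by omega), Finset.prod_range_succ]
    have h2 : n - m = (n - (m + 1)) + 1 := by omega
    rw [h2, qfac_succ]
    ring

/-- a prime dividing a factor of `qfac n / qfac (n - m)` -/
lemma exists_dvd_of_dvd_mul {q : ℕ} (hq : 2 ≤ q) {n m N r : ℕ} (hr : r.Prime) (h : m ≤ n) (hN : N * qfac q (n - m) ∣ qfac q n)
    (hd : r ∣ N) : ∃ j < m, r ∣ q ^ (n - j) - 1 := by
  rw [qfac_eq_mul h, mul_comm] at hN
  have h1 : N ∣ ∏ j ∈ Finset.range m, (q ^ (n - j) - 1) := Nat.dvd_of_mul_dvd_mul_left (qfac_pos hq _) hN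
  obtain ⟨j, hj, h2⟩ := (Nat.Prime.prime hr).exists_mem_finset_dvd (hd.trans h1)
  exact ⟨j, Finset.mem_range.mp hj, h2⟩

lemma not_dvd_qfac {q p n : ℕ} (hq : 0 < q) (hp : p.Prime) (hpq : p ∣ q) : ¬ p ∣ qfac q n := by
  intro h
  obtain ⟨j, hj, h2⟩ := (Nat.Prime.prime hp).exists_mem_finset_dvd h
  have h3 : p ∣ q ^ (j + 1) := hpq.trans (dvd_pow_self _ (by omega))
  have h4 : 1 ≤ q ^ (j + 1) := Nat.one_le_pow _ _ hq
  have h5 := (Nat.dvd_sub_iff_right h4 h3).mp h2
  exact hp.one_lt.ne' (Nat.dvd_one.mp h5)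

end Cfsg.Agent.H99
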